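import Groth.Agent.H9Misc.DRingPerfect

/-!
Complexes of projective modules, exact above a degree, with bounded numbers of generators.
-/

set_option linter.style.haveILetI false

universe u

open CategoryTheory CategoryTheory.Limits CochainComplex CochainComplex.HomComplex
open Groth.Agent.H9Misc

namespace Groth.Agent.NisGlob

variable {A : Type u} [CommRing A]

/-- `M` is generated by `n` elements. -/
def Gen (A : Type u) [CommRing A] (n : ℕ) (M : Type u) [AddCommGroup M] [Module A M] : Prop :=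
  ∃ f : (Fin n → A) →ₗ[A] M, Function.Surjective f

variable {M N : Type u} [AddCommGroup M] [Module A M] [AddCommGroup N] [Module A N] {m n : ℕ}

lemma gen_of_span (s : Fin n → M) (hs : Submodule.span A (Set.range s) = ⊤) : Gen A n M :=
  ⟨Fintype.linearCombination A s, LinearMap.range_eq_top.1 (by rw [Fintype.range_linearCombination, hs])⟩

lemma Gen.span (h : Gen A n M) : ∃ s : Fin n → M, Submodule.span A (Set.range s) = ⊤ := by
  classical
  obtain ⟨f, hf⟩ := h
  refine ⟨fun i => f (Pi.basisFun A (Fin n) i), ?_⟩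
  rw [show (fun i => f (Pi.basisFun A (Fin n) i)) = f ∘ Pi.basisFun A (Fin n) from rfl, Set.range_comp,
    ← Submodule.map_span, (Pi.basisFun A (Fin n)).span_eq, Submodule.map_top,
    LinearMap.range_eq_top.2 hf]

lemma Gen.of_surjective (h : Gen A n M) (g : M →ₗ[A] N) (hg : Function.Surjective g) : Gen A n N := by
  obtain ⟨f, hf⟩ := h
  exact ⟨g ∘ₗ f, hg.comp hf⟩

lemma Gen.equiv (h : Gen A n M) (e : M ≃ₗ[A] N) : Gen A n N := h.of_surjective e.toLinearMap e.surjective

lemma Gen.finite (h : Gen A n M) : Module.Finite A M := by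
  obtain ⟨f, hf⟩ := h
  exact Module.Finite.of_surjective f hf

lemma gen_subsingleton [Subsingleton M] (n : ℕ) : Gen A n M :=
  ⟨0, fun x => ⟨0, Subsingleton.elim _ _⟩⟩

lemma Gen.mono (h : Gen A m M) (hmn : m ≤ n) : Gen A n M := by
  obtain ⟨f, hf⟩ := h
  exact ⟨f ∘ₗ LinearMap.funLeft A A (Fin.castLE hmn),
    hf.comp (LinearMap.funLeft_surjective_of_injective A A _ (Fin.castLE_injective hmn))⟩

lemma Gen.prod (h : Gen A m M) (h' : Gen A n N) : Gen A (m + n) (M × N) := by
  obtain ⟨f, hf⟩ := h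
  obtain ⟨g, hg⟩ := h'
  refine ⟨(f ∘ₗ LinearMap.funLeft A A (Fin.castAdd n)).prod (g ∘ₗ LinearMap.funLeft A A (Fin.natAdd m)),
    fun x => ?_⟩
  obtain ⟨a, ha⟩ := hf x.1
  obtain ⟨b, hb⟩ := hg x.2
  refine ⟨Fin.append a b, Prod.ext ?_ ?_⟩
  · change f (fun i => Fin.append a b (Fin.castAdd n i)) = x.1
    rw [← ha]; congr 1; funext i; simp
  · change g (fun i => Fin.append a b (Fin.natAdd m i)) = x.2
    rw [← hb]; congr 1; funext i; simp

lemma Gen.of_isZero {X : ModuleCat.{u} A} (h : IsZero X) (n : ℕ) : Gen A n X := by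
  haveI := ModuleCat.subsingleton_of_isZero h
  exact gen_subsingleton n

lemma gen_cone {F G : CochainComplex (ModuleCat.{u} A) ℤ} (f : F ⟶ G) (i : ℤ)
    (hF : Gen A m (F.X (i + 1))) (hG : Gen A n (G.X i)) : Gen A (m + n) ((mappingCone f).X i) :=
  (hF.prod hG).equiv
    (HomologicalComplex.homotopyCofiber.XIsoBiprod f i (i + 1) rfl ≪≫
      ModuleCat.biprodIsoProd _ _).toLinearEquiv.symm

lemma finProj_cone {F G : CochainComplex (ModuleCat.{u} A) ℤ} (f : F ⟶ G)
    (hF : DRing.TermwiseFiniteProjective F) (hG : DRing.TermwiseFiniteProjective G) :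
    DRing.TermwiseFiniteProjective (mappingCone f) := fun i => by
  haveI := (hF (i + 1)).1
  haveI := (hF (i + 1)).2
  haveI := (hG i).1
  haveI := (hG i).2
  let e := (HomologicalComplex.homotopyCofiber.XIsoBiprod f i (i + 1) rfl ≪≫
      ModuleCat.biprodIsoProd _ _).toLinearEquiv.symm
  exact ⟨Module.Finite.equiv e, Module.Projective.of_equiv e⟩

lemma isZero_cone {F G : CochainComplex (ModuleCat.{u} A) ℤ} (f : F ⟶ G) (i : ℤ)
    (hF : IsZero (F.X (i + 1))) (hG : IsZero (G.X i)) : IsZero ((mappingCone f).X i) := by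
  haveI := ModuleCat.subsingleton_of_isZero hF
  haveI := ModuleCat.subsingleton_of_isZero hG
  exact (ModuleCat.isZero_of_subsingleton _).of_iso
    (HomologicalComplex.homotopyCofiber.XIsoBiprod f i (i + 1) rfl ≪≫ ModuleCat.biprodIsoProd _ _)

/-- Cycles of a bounded above complex of finite projectives are summands, above the cohomology. -/
lemma exists_cycles_retraction {P : CochainComplex (ModuleCat.{u} A) ℤ}
    (hP : DRing.TermwiseFiniteProjective P) (b₀ : ℤ) (hz : ∀ i, b₀ < i → IsZero (P.X i)) (b : ℤ)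
    (hex : ∀ i, b < i → P.ExactAt i) :
    ∃ r : P.X b →ₗ[A] LinearMap.ker (P.d b (b + 1)).hom,
      r ∘ₗ (LinearMap.ker (P.d b (b + 1)).hom).subtype = LinearMap.id := by
  obtain ⟨k, hk⟩ : ∃ k : ℕ, b₀ < b + 1 + k := ⟨(b₀ - b + 1).toNat, by omega⟩
  obtain ⟨-, hp⟩ := DRingPerfect.finProj_ker hP b₀ hz b hex k (b + 1) (by omega) hk
  haveI := hp
  let d := (P.d b (b + 1)).hom
  let Z := LinearMap.ker (P.d (b + 1) (b + 1 + 1)).hom
  let d' : P.X b →ₗ[A] Z := d.codRestrict Z fun x => by
    have h0 := congrArg (fun g => g.hom x) (P.d_comp_d b (b + 1) (b + 1 + 1))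
    exact h0
  have hsurj : Function.Surjective d' := by
    rintro ⟨y, hy⟩
    have he := hex (b + 1) (by omega)
    rw [P.exactAt_iff' b (b + 1) (b + 1 + 1) (by simp) (by simp),
      ShortComplex.moduleCat_exact_iff] at he
    obtain ⟨x, hx⟩ := he y hy
    exact ⟨x, Subtype.ext hx⟩
  obtain ⟨s, hs⟩ := Module.projective_lifting_property d' LinearMap.id hsurj
  have hmem : ∀ x, (LinearMap.id - s ∘ₗ d' : P.X b →ₗ[A] P.X b) x ∈ LinearMap.ker d := fun x => by
    have h := congrArg Subtype.val (LinearMap.congr_fun hs (d' x))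
    change d (x - s (d' x)) = 0
    rw [map_sub]
    exact sub_eq_zero.2 h.symm
  refine ⟨(LinearMap.id - s ∘ₗ d' : P.X b →ₗ[A] P.X b).codRestrict _ hmem, LinearMap.ext fun z => Subtype.ext ?_⟩
  change (z : P.X b) - s (d' z) = z
  rw [show d' z = 0 from Subtype.ext z.2, map_zero, sub_zero]

/-- The top cohomology of such a complex needs no more generators than its term. -/
lemma gen_homology {P : CochainComplex (ModuleCat.{u} A) ℤ}
    (hP : DRing.TermwiseFiniteProjective P) (b₀ : ℤ) (hz : ∀ i, b₀ < i → IsZero (P.X i)) (b : ℤ)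
    (hex : ∀ i, b < i → P.ExactAt i) (hgen : Gen A n (P.X b)) : Gen A n (P.homology b) := by
  obtain ⟨r, hr⟩ := exists_cycles_retraction hP b₀ hz b hex
  have h1 : Gen A n (LinearMap.ker (P.d b (b + 1)).hom) :=
    hgen.of_surjective r fun z => ⟨z.1, LinearMap.congr_fun hr z⟩
  let eker := ((kernelIsKernel (P.d b (b + 1))).conePointUniqueUpToIso
    (P.cyclesIsKernel b (b + 1) (by simp))).symm ≪≫ ModuleCat.kernelIsoKer (P.d b (b + 1))
  exact h1.of_surjective ((P.homologyπ b).hom ∘ₗ eker.toLinearEquiv.symm.toLinearMap)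
    (((ModuleCat.epi_iff_surjective (P.homologyπ b)).1 inferInstance).comp eker.toLinearEquiv.symm.surjective)

/-- In a complex of finite projectives exact at two consecutive degrees and above, the cokernel
between them is projective. -/
lemma projective_opcycles_of_exact {P : CochainComplex (ModuleCat.{u} A) ℤ}
    (hP : DRing.TermwiseFiniteProjective P) (b₀ : ℤ) (hz : ∀ i, b₀ < i → IsZero (P.X i)) (b : ℤ)
    (hex : ∀ i, b ≤ i → P.ExactAt i) : Module.Projective A (P.opcycles b) := by
  obtain ⟨k, hk⟩ : ∃ k : ℕ, b₀ < b + 1 + k := ⟨(b₀ - b + 1).toNat, by omega⟩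
  obtain ⟨-, hp⟩ := DRingPerfect.finProj_ker hP b₀ hz (b + 1) (fun i hi => hex i (by omega)) k (b + 1) le_rfl hk
  haveI := hp
  -- opcycles map isomorphically onto the next cycles
  have hb := hex b le_rfl
  have hb1 := hex (b + 1) (by omega)
  let eker := ((kernelIsKernel (P.d (b + 1) (b + 1 + 1))).conePointUniqueUpToIso
    (P.cyclesIsKernel (b + 1) (b + 1 + 1) (by simp))).symm ≪≫ ModuleCat.kernelIsoKer (P.d (b + 1) (b + 1 + 1))
  let τ : P.opcycles b ⟶ P.cycles (b + 1) := P.opcyclesToCycles b (b + 1)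
  have : IsIso τ := by
    have h1 : Mono τ := by
      rw [ModuleCat.mono_iff_injective, injective_iff_map_eq_zero]
      intro x hx
      obtain ⟨y, rfl⟩ := (ModuleCat.epi_iff_surjective (P.pOpcycles b)).1 inferInstance x
      have hd : P.d b (b + 1) y = 0 := by
        have := congrArg (fun t => (P.iCycles (b + 1)).hom t) hx
        simp only [map_zero] at this
        rw [← this]
        exact (ConcreteCategory.congr_hom (P.pOpcycles_opcyclesToCycles_iCycles b (b + 1)) y).symm
      rw [P.exactAt_iff' (b - 1) b (b + 1) (by simp) (by simp), ShortComplex.moduleCat_exact_iff] at hb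
      obtain ⟨w, hw⟩ := hb y hd
      have hw' : (P.d (b - 1) b) w = y := hw
      rw [← hw']
      exact ConcreteCategory.congr_hom (P.d_pOpcycles (b - 1) b) w
    have h2 : Epi τ := by
      rw [ModuleCat.epi_iff_surjective]
      intro z
      rw [P.exactAt_iff' b (b + 1) (b + 1 + 1) (by simp) (by simp), ShortComplex.moduleCat_exact_iff] at hb1
      obtain ⟨y, hy⟩ := hb1 (P.iCycles (b + 1) z)
        (ConcreteCategory.congr_hom (P.iCycles_d (b + 1) (b + 1 + 1)) z)
      refine ⟨P.pOpcycles b y, (ModuleCat.mono_iff_injective (P.iCycles (b + 1))).1 inferInstance ?_⟩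
      exact (ConcreteCategory.congr_hom (P.pOpcycles_opcyclesToCycles_iCycles b (b + 1)) y).trans hy
    exact isIso_of_mono_of_epi τ
  exact Module.Projective.of_equiv (asIso τ ≪≫ eker).toLinearEquiv.symm

end Groth.Agent.NisGlob
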