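import Groth.Agent.NisCov7.Gen

/-!
Generators along an affine Nisnevich cover, from generators after extension of scalars.
-/

open CategoryTheory AlgebraicGeometry Limits
open Groth.Agent.NisCov7

universe u

namespace Groth.Agent.NisGlob

/-- Generators after extension of scalars to `B` give generators over any `R`-algebra receiving `B`. -/
theorem span_of_lift {R S B : CommRingCat.{u}} (q : R ⟶ S) (β : R ⟶ B) (M : ModuleCat.{u} R)
    (z : Spec S ⟶ Spec B) (hz : z ≫ Spec.map β = Spec.map q) {N : ℕ}
    (b : Fin N → ((ModuleCat.extendScalars.{_, _, u} β.hom).obj M : ModuleCat.{u} B))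
    (hb : Submodule.span B (Set.range b) = ⊤) :
    ∃ a : Fin N → ((ModuleCat.extendScalars.{_, _, u} q.hom).obj M : ModuleCat.{u} S),
      Submodule.span S (Set.range a) = ⊤ := by
  obtain ⟨ψ, rfl⟩ : ∃ ψ : B ⟶ S, Spec.map ψ = z := ⟨Spec.preimage z, Spec.map_preimage z⟩
  have hψ : β ≫ ψ = q := Spec.map_injective (by rw [Spec.map_comp, hz])
  let : Algebra R B := β.hom.toAlgebra
  let : Algebra R S := q.hom.toAlgebra
  let ψa : B →ₐ[R] S :=
    { ψ.hom with commutes' := fun r => congrArg (fun t : R ⟶ S => t.hom r) hψ }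
  let T : TensorProduct R B M →ₗ[R] TensorProduct R S M := LinearMap.rTensor M ψa.toLinearMap
  have hT : ∀ (c : B) (x : TensorProduct R B M), T (c • x) = ψ.hom c • T x := by
    intro c x
    induction x using TensorProduct.induction_on with
    | zero => simp
    | tmul y m => simp [T, TensorProduct.smul_tmul', ψa]
    | add x y hx hy => rw [smul_add, map_add, hx, hy, map_add, smul_add]
  let b' : Fin N → TensorProduct R B M := b
  have hb' : Submodule.span B (Set.range b') = ⊤ := hb
  refine ⟨fun k => T (b' k), ?_⟩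
  show Submodule.span S (Set.range fun k => T (b' k)) = ⊤
  set P := Submodule.span S (Set.range fun k => T (b' k))
  have hmem : ∀ x ∈ Submodule.span B (Set.range b'), T x ∈ P := by
    intro x hx
    induction hx using Submodule.span_induction with
    | mem y hy => obtain ⟨k, rfl⟩ := hy; exact Submodule.subset_span ⟨k, rfl⟩
    | zero => simp
    | add y z _ _ hy hz => rw [map_add]; exact P.add_mem hy hz
    | smul c y _ hy => rw [hT]; exact P.smul_mem _ hy
  refine eq_top_iff.2 fun x hxt => ?_
  clear hxt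
  induction x using TensorProduct.induction_on with
  | zero => exact P.zero_mem
  | tmul s m =>
    have h1 := P.smul_mem s (hmem ((1 : B) ⊗ₜ m) (hb' ▸ Submodule.mem_top))
    simpa [T, TensorProduct.smul_tmul', ψa] using h1
  | add x y hx hy => exact P.add_mem hx hy

/-- one step of the chain -/
theorem gen_step {R : CommRingCat.{u}} (M : ModuleCat.{u} R) [Module.Finite R M]
    {B : CommRingCat.{u}} (β : R ⟶ B) {N n : ℕ}
    (b : Fin N → ((ModuleCat.extendScalars.{_, _, u} β.hom).obj M : ModuleCat.{u} B))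
    (hb : Submodule.span B (Set.range b) = ⊤)
    {C C' : Set (Spec R)} (hc : IsClosed C) {T : Scheme.{u}} (i : T ⟶ Spec R) [IsImmersion i] (σ : T ⟶ Spec B)
    (hσ : σ ≫ Spec.map β = i) (hr : Set.range i = C \ C') (s : Fin (N * n) → M)
    (hs : ∀ p : PrimeSpectrum R, p ∈ (show Set (PrimeSpectrum R) from C') →
      p ∉ Module.support R (M ⧸ Submodule.span R (Set.range s))) :
    ∃ s : Fin (N * (n + 1)) → M, ∀ p : PrimeSpectrum R, p ∈ (show Set (PrimeSpectrum R) from C) →
      p ∉ Module.support R (M ⧸ Submodule.span R (Set.range s)) := by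
  set P := Submodule.span R (Set.range s)
  set D : Set (PrimeSpectrum R) := Module.support R (M ⧸ P) ∩ C
  have hD : IsClosed D := by
    refine IsClosed.inter ?_ hc
    rw [Module.support_eq_zeroLocus]
    exact PrimeSpectrum.isClosed_zeroLocus _
  set J := PrimeSpectrum.vanishingIdeal D
  have hDJ : PrimeSpectrum.zeroLocus (J : Set R) = D := by
    rw [PrimeSpectrum.zeroLocus_vanishingIdeal_eq_closure, hD.closure_eq]
  have hJrad : J.IsRadical := by
    intro x hx
    rw [PrimeSpectrum.mem_vanishingIdeal]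
    intro p hp
    obtain ⟨k, hk⟩ := hx
    exact p.isPrime.mem_of_pow_mem k ((PrimeSpectrum.mem_vanishingIdeal _ _).1 hk p hp)
  let S : CommRingCat.{u} := CommRingCat.of (R ⧸ J)
  let q : R ⟶ S := CommRingCat.ofHom (Ideal.Quotient.mk J)
  have : _root_.IsReduced S := (Ideal.isRadical_iff_quotient_reduced J).1 hJrad
  have hle : Set.range (Spec.map q) ⊆ Set.range i := by
    rw [hr]
    rintro _ ⟨x, rfl⟩
    have hxD : (Spec.map q x : PrimeSpectrum R) ∈ D := by
      rw [← hDJ]
      intro r hr
      show q r ∈ x.asIdeal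
      rw [show q r = 0 from Ideal.Quotient.eq_zero_iff_mem.2 hr]
      exact zero_mem _
    exact ⟨hxD.2, fun hx => hs _ hx hxD.1⟩
  obtain ⟨l, hl⟩ := H23.RedSub.exists_lift (Spec.map q) i hle
  obtain ⟨a, ha⟩ := span_of_lift q β M (l ≫ σ) (by rw [Category.assoc, hσ, hl]) b hb
  obtain ⟨t, ht⟩ := exists_span_sup_smul q Ideal.Quotient.mk_surjective M a ha
  rw [show RingHom.ker q.hom = J from Ideal.mk_ker] at ht
  refine ⟨fun k : Fin (N * (n + 1)) => Fin.append s t (k.cast (Nat.mul_succ N n)), fun p hp hsupp => ?_⟩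
  have hrange : Set.range (fun k : Fin (N * (n + 1)) => Fin.append s t (k.cast (Nat.mul_succ N n))) = Set.range s ∪ Set.range t := by
    ext m
    constructor
    · rintro ⟨k, rfl⟩
      show Fin.append s t (k.cast _) ∈ _
      induction k.cast (Nat.mul_succ N n) using Fin.addCases with
      | left k => rw [Fin.append_left]; exact Or.inl ⟨k, rfl⟩
      | right k => rw [Fin.append_right]; exact Or.inr ⟨k, rfl⟩
    · rintro (⟨k, rfl⟩ | ⟨k, rfl⟩)
      · exact ⟨(Fin.castAdd N k).cast (Nat.mul_succ N n).symm, by simp⟩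
      · exact ⟨(Fin.natAdd (N * n) k).cast (Nat.mul_succ N n).symm, by simp⟩
  rw [hrange] at hsupp
  set P' := Submodule.span R (Set.range s ∪ Set.range t)
  have hPP' : P ≤ P' := Submodule.span_mono Set.subset_union_left
  have hpD : p ∈ D := by
    refine ⟨?_, hp⟩
    exact Module.support_subset_of_surjective (Submodule.mapQ P P' LinearMap.id (by simpa using hPP'))
      (fun x => by
        obtain ⟨x, rfl⟩ := Submodule.Quotient.mk_surjective _ x
        exact ⟨Submodule.Quotient.mk x, rfl⟩) hsupp
  have htop : (⊤ : Submodule R (M ⧸ P')) ≤ J • ⊤ := by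
    intro x _
    obtain ⟨m, rfl⟩ := Submodule.Quotient.mk_surjective _ x
    obtain ⟨w, hw, v, hv, rfl⟩ := Submodule.mem_sup.1 (ht.ge Submodule.mem_top : m ∈ Submodule.span R (Set.range t) ⊔ J • ⊤)
    rw [Submodule.Quotient.mk_add, (Submodule.Quotient.mk_eq_zero P').2
      (Submodule.span_mono Set.subset_union_right hw), zero_add]
    have := Submodule.mem_map_of_mem (f := P'.mkQ) hv
    rw [Submodule.map_smul''] at this
    exact Submodule.smul_mono le_rfl le_top this
  obtain ⟨r, hr1, hr0⟩ := Submodule.exists_sub_one_mem_and_smul_eq_zero_of_fg_of_le_smul J ⊤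
    Module.Finite.fg_top htop
  refine Module.notMem_support_iff'.2 (fun x => ⟨r, fun hrp => ?_, hr0 x trivial⟩) hsupp
  have h1 : r - 1 ∈ p.asIdeal := by
    rw [← hDJ] at hpD
    exact hpD hr1
  exact p.isPrime.ne_top ((Ideal.eq_top_iff_one _).2 (by simpa using sub_mem hrp h1))

theorem exists_generators_of_chain {R : CommRingCat.{u}} (M : ModuleCat.{u} R) [Module.Finite R M]
    {B : CommRingCat.{u}} (β : R ⟶ B) {N : ℕ}
    (b : Fin N → ((ModuleCat.extendScalars.{_, _, u} β.hom).obj M : ModuleCat.{u} B))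
    (hb : Submodule.span B (Set.range b) = ⊤) {n : ℕ} :
    ∀ {C : Set (Spec R)}, Chain (Spec.map β) n C → ∃ s : Fin (N * n) → M,
      ∀ p : PrimeSpectrum R, p ∈ (show Set (PrimeSpectrum R) from C) →
        p ∉ Module.support R (M ⧸ Submodule.span R (Set.range s)) := by
  induction n with
  | zero => intro C h; exact ⟨fun k => 0, fun p hp => absurd (show p ∈ (∅ : Set (Spec R)) from h ▸ hp) (Set.notMem_empty _)⟩
  | succ n ih =>
    rintro C ⟨C', h', -, hc, -, T, i, σ, hi, hr, hσ⟩
    obtain ⟨s, hs⟩ := ih h'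
    exact gen_step M β b hb hc i σ hσ hr s hs

theorem exists_generators {R : CommRingCat.{u}} (M : ModuleCat.{u} R) [Module.Finite R M]
    {B : CommRingCat.{u}} (β : R ⟶ B) {N : ℕ}
    (b : Fin N → ((ModuleCat.extendScalars.{_, _, u} β.hom).obj M : ModuleCat.{u} B))
    (hb : Submodule.span B (Set.range b) = ⊤) {n : ℕ}
    (h : Chain (Spec.map β) n Set.univ) : ∃ s : Fin (N * n) → M, Submodule.span R (Set.range s) = ⊤ := by
  obtain ⟨s, hs⟩ := exists_generators_of_chain M β b hb h
  refine ⟨s, ?_⟩
  rw [← Submodule.Quotient.subsingleton_iff, ← Module.support_eq_empty_iff (R := R)]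
  exact Set.eq_empty_iff_forall_notMem.2 fun p => hs p trivial

end Groth.Agent.NisGlob
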