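import Groth.Agent.CAlgOdd.PCResolve

/-!
One step of a resolution with prescribed generators.
-/

set_option linter.style.haveILetI false

universe u

open CategoryTheory CategoryTheory.Limits CochainComplex CochainComplex.HomComplex
open Groth.Agent.CAlgOdd.PCResolve

namespace Groth.Agent.NisGlob

variable {A : Type u} [CommRing A]

/-- Killing the cohomology of a cone in one degree by prescribed generators. -/
theorem exists_step {Q F : CochainComplex (ModuleCat.{u} A) ℤ} (α : Q ⟶ F) {n n' n'' : ℤ}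
    (hn' : n' + 1 = n) (hn'' : n'' + 1 = n') (below : ∀ i, i < n → IsZero (Q.X i))
    (exact_ : ∀ i, n ≤ i → (mappingCone α).ExactAt i) (N : ModuleCat.{u} A)
    (φ : N ⟶ (mappingCone α).X n') (hφd : φ ≫ (mappingCone α).d n' n = 0)
    (hφ : ∀ x, (mappingCone α).d n' n x = 0 →
      ∃ (c : N) (y : (mappingCone α).X n''), x = φ c + (mappingCone α).d n'' n' y) :
    ∃ (Q' : CochainComplex (ModuleCat.{u} A) ℤ) (α' : Q' ⟶ F), (∀ i, i < n' → IsZero (Q'.X i)) ∧
      (∀ i, n ≤ i → Nonempty (Q'.X i ≅ Q.X i)) ∧ Nonempty (Q'.X n' ≅ N) ∧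
      ∀ i, n' ≤ i → (mappingCone α').ExactAt i := by
  let S := (HomologicalComplex.single (ModuleCat.{u} A) (ComplexShape.up ℤ) n).obj N
  let σ := HomologicalComplex.singleObjXSelf (ComplexShape.up ℤ) n N
  let g : S ⟶ Q := HomologicalComplex.mkHomFromSingle (-(φ ≫ (mappingCone.fst α).1.v n' n hn')) (by
    intro j hj
    obtain rfl : n + 1 = j := hj
    have := φ ≫= mappingCone.d_fst_v α n' n (n + 1) hn' rfl
    rw [← Category.assoc, hφd, zero_comp] at this
    simp only [Category.assoc, Preadditive.neg_comp, Preadditive.comp_neg] at this ⊢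
    exact this.symm)
  have hgn : g.f n = σ.hom ≫ (-(φ ≫ (mappingCone.fst α).1.v n' n hn')) :=
    HomologicalComplex.mkHomFromSingle_f _ _
  let f : S.X n ⟶ F.X n' := σ.hom ≫ φ ≫ (mappingCone.snd α).v n' n' (add_zero n')
  let β : Cochain S F (-1) := Cochain.single f (-1)
  have heq : δ (-1) 0 β = Cochain.ofHom (g ≫ α) := by
    have h2 := φ ≫= mappingCone.d_snd_v α n' n hn'
    rw [← Category.assoc, hφd, zero_comp, Preadditive.comp_add] at h2
    rw [Cochain.δ_single f (-1) 0 (by omega) n' n hn' hn']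
    refine Cochain.ext₀ _ _ fun p => ?_
    rcases eq_or_ne p n with hp | hp
    · subst hp
      rw [Cochain.add_v, Cochain.units_smul_v, Cochain.single_v,
        Cochain.single_v_eq_zero _ _ p p (add_zero p) (by omega), smul_zero, add_zero, Cochain.ofHom_v,
        HomologicalComplex.comp_f, hgn]
      simp only [f, Category.assoc, Preadditive.neg_comp]
      exact congrArg (σ.hom ≫ ·) (eq_neg_of_add_eq_zero_right h2.symm)
    · exact (HomologicalComplex.isZero_single_obj_X (ComplexShape.up ℤ) n N p hp).eq_of_src _ _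
  let α' := mappingCone.desc g β α heq
  let ι := mappingCone.inr g
  have hfac : ι ≫ α' = α := mappingCone.inr_desc ..
  have hiso : ∀ i, n ≤ i → IsIso (ι.f i) := fun i hi => isIso_inr_f g i
    (HomologicalComplex.isZero_single_obj_X (ComplexShape.up ℤ) n N (i + 1) (by omega))
  have e : ∀ i, (mappingCone g).X i ≅ ModuleCat.of A (S.X (i + 1) × Q.X i) := fun i =>
    HomologicalComplex.homotopyCofiber.XIsoBiprod g i (i + 1) rfl ≪≫ ModuleCat.biprodIsoProd _ _
  have hzero : ∀ i, IsZero (S.X (i + 1)) → IsZero (Q.X i) → IsZero ((mappingCone g).X i) :=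
    fun i h1 h2 => by
      haveI := ModuleCat.subsingleton_of_isZero h1
      haveI := ModuleCat.subsingleton_of_isZero h2
      exact (ModuleCat.isZero_of_subsingleton _).of_iso (e i)
  let θ : mappingCone α ⟶ mappingCone α' := mappingCone.map α α' ι (𝟙 F) (by rw [hfac, Category.comp_id])
  have hθf : ∀ p q (h : p + 1 = q), θ.f p = (mappingCone.fst α).1.v p q h ≫ ι.f q ≫
      (mappingCone.inl α').v q p (by omega) +
      (mappingCone.snd α).v p p (add_zero p) ≫ (mappingCone.inr α').f p := fun p q h => by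
    simp [θ, mappingCone.map, mappingCone.desc_f _ _ _ _ p q h]
  have hθ : ∀ i, n' ≤ i → IsIso (θ.f i) := fun i hi => by
    haveI := hiso (i + 1) (by omega)
    refine ⟨(mappingCone.fst α').1.v i (i + 1) rfl ≫ inv (ι.f (i + 1)) ≫
      (mappingCone.inl α).v (i + 1) i (by omega) +
      (mappingCone.snd α').v i i (add_zero i) ≫ (mappingCone.inr α).f i, ?_, ?_⟩
    · rw [hθf i (i + 1) rfl, ← mappingCone.id_X α i (i + 1) rfl]; simp
    · rw [hθf i (i + 1) rfl, ← mappingCone.id_X α' i (i + 1) rfl]; simp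
  have hkill : ∀ c, ∃ y, (mappingCone α').d n'' n' y = θ.f n' (φ c) := by
    have h3 : (σ.inv ≫ (mappingCone.inl g).v n n' (by omega) ≫ (mappingCone.inl α').v n' n'' (by omega)) ≫
        (mappingCone α').d n'' n' = φ ≫ θ.f n' := by
      have hd : S.d n (n + 1) = 0 :=
        (HomologicalComplex.isZero_single_obj_X (ComplexShape.up ℤ) n N (n + 1) (by omega)).eq_of_tgt _ _
      rw [hθf n' n hn', Category.assoc, Category.assoc, mappingCone.inl_v_d α' n' n'' n (by omega) (by omega),
        Preadditive.comp_sub, mappingCone.inl_v_desc_f_assoc,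
        mappingCone.inl_v_d_assoc g n n' (n + 1) (by omega) (by omega)]
      simp [β, f, hgn, hd, Preadditive.comp_add]
      abel
    exact fun c => ⟨_, ConcreteCategory.congr_hom h3 c⟩
  refine ⟨mappingCone g, α', fun i hi => hzero i
      (HomologicalComplex.isZero_single_obj_X (ComplexShape.up ℤ) n N (i + 1) (by omega)) (below i (by omega)),
    fun i hi => ?_, ?_, fun i hi => ?_⟩
  · haveI := hiso i hi
    exact ⟨(asIso (ι.f i)).symm⟩
  · subst hn'
    haveI : IsIso ((mappingCone.inl g).v (n' + 1) n' (by omega)) :=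
      ⟨(mappingCone.fst g).1.v n' (n' + 1) rfl, by simp, by
        have := mappingCone.id_X g n' (n' + 1) rfl
        rw [← this, (below n' (by omega)).eq_of_tgt ((mappingCone.snd g).v n' n' (add_zero n')) 0, zero_comp,
          add_zero]⟩
    exact ⟨(asIso ((mappingCone.inl g).v (n' + 1) n' _)).symm ≪≫ σ⟩
  rw [exactAt_iff_forall _ (i - 1) i (i + 1) (by omega) rfl]
  intro x hx
  haveI := hθ i hi
  haveI := hθ (i + 1) (by omega)
  obtain ⟨x, rfl⟩ := ((ConcreteCategory.isIso_iff_bijective (θ.f i)).1 inferInstance).2 x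
  have hx0 : (mappingCone α).d i (i + 1) x = 0 := by
    apply ((ConcreteCategory.isIso_iff_bijective (θ.f (i + 1))).1 inferInstance).1
    rw [map_zero, ← ConcreteCategory.comp_apply, ← θ.comm, ConcreteCategory.comp_apply, hx]
  have hnat : ∀ p q y, (mappingCone α').d p q (θ.f p y) = θ.f q ((mappingCone α).d p q y) := fun p q y => by
    rw [← ConcreteCategory.comp_apply, θ.comm, ConcreteCategory.comp_apply]
  rcases eq_or_lt_of_le hi with h | h
  · subst h
    obtain rfl : n = n' + 1 := hn'.symm
    obtain rfl : n'' = n' - 1 := by omega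
    obtain ⟨c, y, hy⟩ := hφ x hx0
    obtain ⟨z, hz⟩ := hkill c
    exact ⟨z + θ.f _ y, by rw [map_add, hz, hnat, hy, map_add]⟩
  · obtain ⟨y, hy⟩ := (exactAt_iff_forall _ (i - 1) i (i + 1) (by omega) rfl).1 (exact_ i (by omega)) x hx0
    exact ⟨θ.f _ y, by rw [hnat, hy]⟩

end Groth.Agent.NisGlob
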