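import Groth.Agent.NisGlob.Alg
import Groth.Agent.NisGlob.Step
import Groth.Agent.NisGlob.Nis
import Groth.Prelude.Def_W4c5algebraiztannakaNis

/-!
Uniform global size of perfect complexes from local size along Nisnevich covers.
-/

set_option linter.style.haveILetI false

universe u

open CategoryTheory CategoryTheory.Limits CochainComplex CochainComplex.HomComplex
open Groth.Agent.H9Misc
open W4c5algebraiztannaka (bcCx)
open scoped ZeroObject

attribute [local instance] HasDerivedCategory.standard

namespace Groth.Agent.NisGlob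

variable {R B : Type u} [CommRing R] [CommRing B] (φ : R →+* B)

/-- Extension of scalars. -/
noncomputable abbrev extS : ModuleCat.{u} R ⥤ ModuleCat.{u} B := ModuleCat.extendScalars.{u, u, u} φ

/-- Extension of scalars keeps the number of generators. -/
lemma gen_extend {n : ℕ} {M : ModuleCat.{u} R} (h : Gen R n M) : Gen B n ((extS φ).obj M) := by
  obtain ⟨s, hs⟩ := h.span
  let _ : Algebra R B := φ.toAlgebra
  let s' : Fin n → TensorProduct R B M := fun k => 1 ⊗ₜ[R] s k
  have : Submodule.span B (Set.range s') = ⊤ := by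
    refine eq_top_iff.2 fun x hx => ?_
    clear hx
    induction x using TensorProduct.induction_on with
    | zero => exact Submodule.zero_mem _
    | tmul c m =>
      have hm : m ∈ Submodule.span R (Set.range s) := hs ▸ Submodule.mem_top
      have h1 : (1 : B) ⊗ₜ[R] m ∈ Submodule.span B (Set.range s') := by
        induction hm using Submodule.span_induction with
        | mem y hy => obtain ⟨k, rfl⟩ := hy; exact Submodule.subset_span ⟨k, rfl⟩
        | zero => rw [TensorProduct.tmul_zero]; exact Submodule.zero_mem _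
        | add y z _ _ hy hz => rw [TensorProduct.tmul_add]; exact Submodule.add_mem _ hy hz
        | smul r y _ hy =>
          rw [TensorProduct.tmul_smul, ← algebraMap_smul B r]
          exact Submodule.smul_mem _ _ hy
      have h2 := Submodule.smul_mem _ c h1
      rwa [TensorProduct.smul_tmul', smul_eq_mul, mul_one] at h2
    | add x y hx hy => exact Submodule.add_mem _ hx hy
  exact gen_of_span (M := TensorProduct R B M) s' this

lemma finProj_bc {E : DRing.Cx R} (hE : DRing.TermwiseFiniteProjective E) :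
    DRing.TermwiseFiniteProjective ((bcCx φ).obj E) := fun i => by
  haveI := (hE i).1
  haveI := (hE i).2
  exact DRingPerfect.finProj_extendScalars φ (E.X i)

lemma isZero_bc {E : DRing.Cx R} {i : ℤ} (h : IsZero (E.X i)) : IsZero (((bcCx φ).obj E).X i) :=
  (extS φ).map_isZero h

variable {φ} (hfl : φ.Flat)

include hfl in
/-- Homology commutes with flat extension of scalars. -/
lemma bc_homology_iso (X : DRing.Cx R) (i : ℤ) :
    Nonempty ((extS φ).obj (X.homology i) ≅ ((bcCx φ).obj X).homology i) := by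
  haveI := ModuleCat.preservesFiniteLimits_extendScalars_of_flat hfl
  haveI : (extS φ).IsLeftAdjoint := (ModuleCat.extendRestrictScalarsAdj φ).isLeftAdjoint
  haveI : PreservesFiniteColimits (extS φ) := inferInstance
  exact ⟨((X.sc i).mapHomologyIso (extS φ)).symm⟩

include hfl in
lemma bc_cone_iso {Q E : DRing.Cx R} (α : Q ⟶ E) :
    Nonempty ((bcCx φ).obj (mappingCone α) ≅ mappingCone ((bcCx φ).map α)) :=
  ⟨mappingCone.mapHomologicalComplexIso α (extS φ)⟩

/-- Composing with a quasi-isomorphism does not change the cohomology of a cone. -/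
lemma cone_comp_homology_iso {Q C P : DRing.Cx B} (f : Q ⟶ C) (h : C ⟶ P) [QuasiIso h] (i : ℤ) :
    Nonempty ((mappingCone f).homology i ≅ (mappingCone (f ≫ h)).homology i) := by
  have w : f ≫ h = 𝟙 Q ≫ (f ≫ h) := (Category.id_comp _).symm
  let τ := DerivedCategory.Q.mapTriangle.map (mappingCone.triangleMap f (f ≫ h) (𝟙 Q) h w)
  have h1 : IsIso τ.hom₁ := inferInstanceAs (IsIso (DerivedCategory.Q.map (𝟙 Q)))
  have h2 : IsIso τ.hom₂ := inferInstanceAs (IsIso (DerivedCategory.Q.map h))
  have h3 : IsIso (DerivedCategory.Q.map (mappingCone.map f (f ≫ h) (𝟙 Q) h w)) :=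
    Pretriangulated.isIso₃_of_isIso₁₂ τ
      (DerivedCategory.mappingCone_triangle_distinguished f)
      (DerivedCategory.mappingCone_triangle_distinguished (f ≫ h)) h1 h2
  haveI : QuasiIso (mappingCone.map f (f ≫ h) (𝟙 Q) h w) :=
    (DerivedCategory.isIso_Q_map_iff_quasiIso _ _).1 h3
  exact ⟨asIso (HomologicalComplex.homologyMap (mappingCone.map f (f ≫ h) (𝟙 Q) h w) i)⟩

/-- Generators of a cohomology module, as a map into the cycles. -/
lemma exists_cover {X : DRing.Cx R} {n' n n'' : ℤ} (hn : n' + 1 = n) (hn'' : n'' + 1 = n') {k : ℕ}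
    (h : Gen R k (X.homology n')) :
    ∃ ψ : ModuleCat.of R (Fin k → R) ⟶ X.X n', ψ ≫ X.d n' n = 0 ∧
      ∀ x, X.d n' n x = 0 → ∃ (c : ModuleCat.of R (Fin k → R)) (y : X.X n''), x = ψ c + X.d n'' n' y := by
  let S := X.sc' n'' n' n
  have e : X.homology n' ≅ S.moduleCatLeftHomologyData.H :=
    X.homologyIsoSc' n'' n' n (by simp; omega) (by simp; omega) ≪≫ S.moduleCatHomologyIso
  obtain ⟨p, hp⟩ : Gen R k (S.g.hom.ker ⧸ S.moduleCatToCycles.range) := h.equiv e.toLinearEquiv
  obtain ⟨l, hl⟩ := Module.projective_lifting_property (Submodule.mkQ S.moduleCatToCycles.range) p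
    (Submodule.mkQ_surjective _)
  let ψ : ModuleCat.of R (Fin k → R) ⟶ X.X n' := ModuleCat.ofHom (S.g.hom.ker.subtype ∘ₗ l)
  refine ⟨ψ, ModuleCat.hom_ext (LinearMap.ext fun c => (l c).2),
    fun x hx => ?_⟩
  obtain ⟨c, hc⟩ := hp (Submodule.Quotient.mk ⟨x, hx⟩)
  rw [← hl] at hc
  obtain ⟨y, hy⟩ := (Submodule.Quotient.eq _).1 hc.symm
  have h2 : (X.d n'' n') y = x - ψ c := congrArg Subtype.val hy
  exact ⟨c, y, eq_add_of_sub_eq' h2.symm⟩

/-- The bound. -/
def bound (N m : ℕ) : ℕ → ℕ
  | 0 => 0
  | j + 1 => max (bound N m j) ((bound N m j + N) * m)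

variable (φ) in
/-- The hypotheses along the cover: generators descend up to a factor. -/
def GenDescends (m : ℕ) : Prop :=
  ∀ (n : ℕ) (M : ModuleCat.{u} R), Module.Finite R M → Gen B n ((extS φ).obj M) → Gen R (n * m) M

variable (hz : ∀ M : ModuleCat.{u} R, IsZero ((extS φ).obj M) → IsZero M)
  {E : DRing.Cx R} (hE : DRing.TermwiseFiniteProjective E) {a b : ℤ} (hab : DRing.VanishesOutside E a b)
  {N m : ℕ} (hm : GenDescends φ m) {P : DRing.Cx B} (hP : DRing.VanishesOutside P (-(N : ℤ)) N)
  (hPp : ∀ i, Module.Projective B (P.X i) ∧ Gen B N (P.X i)) (h : (bcCx φ).obj E ⟶ P) [QuasiIso h]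

include hfl hz hP in
lemma exactAt_of_outside (h : (bcCx φ).obj E ⟶ P) [QuasiIso h] (i : ℤ) (hi : i < -(N : ℤ) ∨ (N : ℤ) < i) :
    E.ExactAt i := by
  rw [HomologicalComplex.exactAt_iff_isZero_homology]
  obtain ⟨e⟩ := bc_homology_iso hfl E i
  refine hz _ (IsZero.of_iso ?_ (e ≪≫ asIso (HomologicalComplex.homologyMap h i)))
  exact (HomologicalComplex.exactAt_iff_isZero_homology _ _).1 (ShortComplex.exact_of_isZero_X₂ _ (hP i hi))

include hPp in
lemma finProj_P : DRing.TermwiseFiniteProjective P := fun i => ⟨(hPp i).2.finite, (hPp i).1⟩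

include hfl hz hE hab hm hP hPp in
/-- The stages of the resolution. -/
theorem exists_stage (h : (bcCx φ).obj E ⟶ P) [QuasiIso h] (j : ℕ) :
    ∃ (Q : DRing.Cx R) (α : Q ⟶ E),
      (∀ i, (Module.Finite R (Q.X i) ∧ Module.Projective R (Q.X i)) ∧ Gen R (bound N m j) (Q.X i)) ∧
      (∀ i, i < (N : ℤ) + 1 - j ∨ (N : ℤ) < i → IsZero (Q.X i)) ∧
      ∀ i, (N : ℤ) + 1 - j ≤ i → (mappingCone α).ExactAt i := by
  induction j with
  | zero =>
    have hz0 : ∀ i, IsZero ((0 : DRing.Cx R).X i) := fun i =>
      (HomologicalComplex.eval _ _ i).map_isZero (isZero_zero _)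
    refine ⟨0, 0, fun i => ?_, fun i _ => hz0 i, fun i hi => ?_⟩
    · haveI := ModuleCat.subsingleton_of_isZero (hz0 i)
      exact ⟨⟨inferInstance, inferInstance⟩, gen_subsingleton _⟩
    · haveI : ∀ i, IsIso ((mappingCone.inr (0 : (0 : DRing.Cx R) ⟶ E)).f i) :=
        fun i => Groth.Agent.CAlgOdd.PCResolve.isIso_inr_f _ i (hz0 _)
      haveI : IsIso (mappingCone.inr (0 : (0 : DRing.Cx R) ⟶ E)) :=
        HomologicalComplex.Hom.isIso_of_components _
      exact (exactAt_of_outside hfl hz hP h i (Or.inr (by omega))).of_iso (asIso (mappingCone.inr _))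
  | succ j ih =>
    obtain ⟨Q, α, hQ, hQz, hex⟩ := ih
    obtain ⟨n', hn'⟩ : ∃ n' : ℤ, n' + 1 = (N : ℤ) + 1 - j := ⟨_, sub_add_cancel _ 1⟩
    have hQf : DRing.TermwiseFiniteProjective Q := fun i => (hQ i).1
    have hXf := finProj_cone α hQf hE
    have hXz : ∀ i, max b N < i → IsZero ((mappingCone α).X i) := fun i hi =>
      isZero_cone α i (hQz _ (Or.inr (by omega))) (hab i (Or.inr (by omega)))
    have hXex : ∀ i, n' < i → (mappingCone α).ExactAt i := fun i hi => hex i (by omega)
    haveI : Module.Finite R ((mappingCone α).homology n') := by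
      haveI := (hXf n').1
      obtain ⟨k, f, hf⟩ := Module.Finite.exists_fin' R ((mappingCone α).X n')
      exact (gen_homology hXf (max b N) hXz n' hXex ⟨f, hf⟩).finite
    -- the same over the cover
    let αB := (bcCx φ).map α
    have hXf' : DRing.TermwiseFiniteProjective (mappingCone (αB ≫ h)) :=
      finProj_cone _ (finProj_bc φ hQf) (finProj_P hPp)
    have hiso : ∀ i, Nonempty ((extS φ).obj ((mappingCone α).homology i) ≅
        (mappingCone (αB ≫ h)).homology i) := fun i => by
      obtain ⟨e1⟩ := bc_homology_iso hfl (mappingCone α) i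
      obtain ⟨e2⟩ := bc_cone_iso hfl α
      obtain ⟨e3⟩ := cone_comp_homology_iso αB h i
      exact ⟨e1 ≪≫ (HomologicalComplex.homologyFunctor _ _ i).mapIso e2 ≪≫ e3⟩
    have hgen : Gen B (bound N m j + N) ((mappingCone (αB ≫ h)).homology n') := by
      refine gen_homology hXf' (N : ℤ) (fun i hi => isZero_cone _ i (isZero_bc φ (hQz _ (Or.inr (by omega))))
        (hP i (Or.inr hi))) n' (fun i hi => ?_) (gen_cone _ _ (gen_extend φ (hQ _).2) (hPp n').2)
      rw [HomologicalComplex.exactAt_iff_isZero_homology]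
      obtain ⟨e⟩ := hiso i
      exact ((extS φ).map_isZero (hXex i hi).isZero_homology).of_iso e.symm
    have hgenR : Gen R ((bound N m j + N) * m) ((mappingCone α).homology n') := by
      obtain ⟨e⟩ := hiso n'
      exact hm _ _ inferInstance (hgen.equiv e.symm.toLinearEquiv)
    obtain ⟨ψ, hψd, hψ⟩ := exists_cover hn' (sub_add_cancel n' 1) hgenR
    obtain ⟨Q', α', hzero, hold, hnew, hex'⟩ := exists_step α hn' (sub_add_cancel n' 1)
      (fun i hi => hQz i (Or.inl hi)) hex _ ψ hψd hψ
    refine ⟨Q', α', fun i => ?_, fun i hi => ?_, fun i hi => hex' i (by push_cast at hi; omega)⟩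
    · rcases lt_trichotomy i n' with hi | rfl | hi
      · haveI := ModuleCat.subsingleton_of_isZero (hzero i hi)
        exact ⟨⟨inferInstance, inferInstance⟩, gen_subsingleton _⟩
      · obtain ⟨e⟩ := hnew
        exact ⟨⟨Module.Finite.equiv e.symm.toLinearEquiv, Module.Projective.of_equiv e.symm.toLinearEquiv⟩,
          ((show Gen R ((bound N m j + N) * m) (Fin ((bound N m j + N) * m) → R) from
            ⟨LinearMap.id, Function.surjective_id⟩).equiv (M := Fin ((bound N m j + N) * m) → R)
              e.symm.toLinearEquiv).mono (le_max_right _ _)⟩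
      · obtain ⟨e⟩ := hold i (by omega)
        haveI := (hQ i).1.1
        haveI := (hQ i).1.2
        exact ⟨⟨Module.Finite.equiv e.symm.toLinearEquiv, Module.Projective.of_equiv e.symm.toLinearEquiv⟩,
          ((hQ i).2.equiv e.symm.toLinearEquiv).mono (le_max_left _ _)⟩
    · rcases hi with hi | hi
      · exact hzero i (by push_cast at hi; omega)
      · obtain ⟨e⟩ := hold i (by omega)
        exact (hQz i (Or.inr hi)).of_iso e

/-- A complex over `B` receiving the cone computes the last cokernel. -/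
lemma projective_opcycles_bc {Q : DRing.Cx B} {b₀ : ℤ} (hQ : DRing.TermwiseFiniteProjective Q)
    (hQz : ∀ i, b₀ < i → IsZero (Q.X i)) (hPf : DRing.TermwiseFiniteProjective P)
    (hP : DRing.VanishesOutside P (-(N : ℤ)) N) (f : Q ⟶ P) (c : ℤ) (hc : c < -(N : ℤ))
    (hex : ∀ i, c ≤ i → (mappingCone f).ExactAt i) : Module.Projective B (Q.opcycles (c + 1)) := by
  haveI := projective_opcycles_of_exact (finProj_cone f hQ hPf) (max b₀ (N : ℤ))
    (fun i hi => isZero_cone f i (hQz _ (by omega)) (hP i (Or.inr (by omega)))) c hex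
  let inlc := (mappingCone.inl f).v (c + 1) c (by omega)
  let fstc := (mappingCone.fst f).1.v c (c + 1) rfl
  let s : Q.opcycles (c + 1) ⟶ (mappingCone f).opcycles c :=
    Q.descOpcycles (inlc ≫ (mappingCone f).pOpcycles c) c (by simp) (by
      have h1 := mappingCone.inl_v_d f c (c - 1) (c + 1) (by omega) (by omega)
      rw [(hP c (Or.inl hc)).eq_of_tgt (f.f c) 0, zero_comp, zero_sub] at h1
      rw [← Category.assoc,
        show Q.d c (c + 1) ≫ inlc = -((mappingCone.inl f).v c (c - 1) (by omega) ≫ (mappingCone f).d (c - 1) c) by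
          rw [h1]; simp [inlc]]
      simp)
  let r : (mappingCone f).opcycles c ⟶ Q.opcycles (c + 1) :=
    (mappingCone f).descOpcycles (fstc ≫ Q.pOpcycles (c + 1)) (c - 1) (by simp) (by
      have h1 := mappingCone.d_fst_v f (c - 1) c (c + 1) (by omega) rfl
      rw [reassoc_of% h1]
      simp)
  have hsr : s ≫ r = 𝟙 _ := by
    rw [← cancel_epi (Q.pOpcycles (c + 1))]
    simp [s, r, inlc, fstc]
  exact Module.Projective.of_split s.hom r.hom (by rw [← ModuleCat.hom_comp, hsr]; rfl)

variable (hflat : ∀ M : ModuleCat.{u} R, Module.FinitePresentation R M →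
    Module.Projective B ((extS φ).obj M) → Module.Projective R M)

include hfl hz hE hab hm hP hPp hflat in
/-- Main construction. -/
theorem exists_glob (h : (bcCx φ).obj E ⟶ P) [QuasiIso h] :
    ∃ T : DRing.Cx R, W4c5algebraiztannaka.TermsOfSize T (max N (bound N m (2 * N + 2))) ∧
      Nonempty (DRing.toD T ≅ DRing.toD E) := by
  set F := max N (bound N m (2 * N + 2))
  obtain ⟨Q, α, hQ, hQz, hex⟩ := exists_stage hfl hz hE hab hm hP hPp h (2 * N + 2)
  have hQf : DRing.TermwiseFiniteProjective Q := fun i => (hQ i).1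
  obtain ⟨c, hc, hc'⟩ : ∃ c : ℤ, c = (N : ℤ) + 1 - ((2 * N + 2 : ℕ) : ℤ) ∧ c + 1 = -(N : ℤ) :=
    ⟨_, rfl, by push_cast; ring⟩
  rw [← hc] at hex hQz
  -- the lowest term
  have hproj : Module.Projective R (Q.opcycles (c + 1)) := by
    refine hflat _ ?_ ?_
    · haveI := (hQ (c + 1)).1.1
      haveI := (hQ (c + 1)).1.2
      haveI := (hQ c).1.1
      haveI : Module.FinitePresentation R (Q.X (c + 1)) := Module.finitePresentation_of_projective R _
      haveI : Module.FinitePresentation R ((Q.X (c + 1)) ⧸ LinearMap.range (Q.d c (c + 1)).hom) :=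
        Module.finitePresentation_of_surjective (Submodule.mkQ _) (Submodule.mkQ_surjective _) (by
          rw [Submodule.ker_mkQ, LinearMap.range_eq_map]
          exact Submodule.FG.map _ Module.Finite.fg_top)
      let e := ((cokernelIsCokernel (Q.d c (c + 1))).coconePointUniqueUpToIso
          (Q.opcyclesIsCokernel c (c + 1) (by simp))).symm ≪≫
        ModuleCat.cokernelIsoRangeQuotient (Q.d c (c + 1))
      exact Module.FinitePresentation.of_equiv e.toLinearEquiv.symm
    · haveI := ModuleCat.preservesFiniteLimits_extendScalars_of_flat hfl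
      haveI : (extS φ).IsLeftAdjoint := (ModuleCat.extendRestrictScalarsAdj φ).isLeftAdjoint
      haveI : PreservesFiniteColimits (extS φ) := inferInstance
      have hp : Module.Projective B (((bcCx φ).obj Q).opcycles (c + 1)) := projective_opcycles_bc (finProj_bc φ hQf) (fun i hi => isZero_bc φ (hQz i (Or.inr hi)))
        (finProj_P hPp) hP ((bcCx φ).map α ≫ h) c (by omega) (fun i hi => by
          rw [HomologicalComplex.exactAt_iff_isZero_homology]
          obtain ⟨e1⟩ := bc_homology_iso hfl (mappingCone α) i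
          obtain ⟨e2⟩ := bc_cone_iso hfl α
          obtain ⟨e3⟩ := cone_comp_homology_iso ((bcCx φ).map α) h i
          exact ((extS φ).map_isZero (hex i hi).isZero_homology).of_iso
            (e1 ≪≫ (HomologicalComplex.homologyFunctor _ _ i).mapIso e2 ≪≫ e3).symm)
      haveI hp' : Module.Projective B ((Q.sc (c + 1)).map (extS φ)).opcycles := hp
      exact Module.Projective.of_equiv ((Q.sc (c + 1)).mapOpcyclesIso (extS φ)).toLinearEquiv
  rw [hc'] at hproj
  refine ⟨Q.truncGE (-(N : ℤ)), ⟨fun i hi => ?_, fun i => ?_⟩, ?_⟩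
  · rcases hi with hi | hi
    · exact CochainComplex.isZero_of_isStrictlyGE _ (-(N : ℤ)) i (by omega)
    · exact (hQz i (Or.inr (by omega))).of_iso (Q.truncGEXIso (-(N : ℤ)) i (by omega))
  · rcases lt_trichotomy i (-(N : ℤ)) with hi | rfl | hi
    · haveI := ModuleCat.subsingleton_of_isZero
        (CochainComplex.isZero_of_isStrictlyGE (Q.truncGE (-(N : ℤ))) (-(N : ℤ)) i hi)
      exact ⟨inferInstance, gen_subsingleton _⟩
    · let e := (Q.truncGEXIsoOpcycles (-(N : ℤ))).symm.toLinearEquiv
      haveI := hproj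
      refine ⟨Module.Projective.of_equiv e, ?_⟩
      exact ((((hQ (-(N : ℤ))).2.of_surjective (Q.pOpcycles (-(N : ℤ))).hom
        ((ModuleCat.epi_iff_surjective _).1 inferInstance))).equiv e).mono (le_max_right _ _)
    · let e := (Q.truncGEXIso (-(N : ℤ)) i hi).symm.toLinearEquiv
      haveI := (hQ i).1.2
      exact ⟨Module.Projective.of_equiv e, ((hQ i).2.equiv e).mono (le_max_right _ _)⟩
  · haveI : QuasiIso (E.πTruncGE (-(N : ℤ))) :=
      (CochainComplex.quasiIso_πTruncGE_iff _ _).2 ((CochainComplex.isGE_iff _ _).2 fun i hi =>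
        exactAt_of_outside hfl hz hP h i (Or.inl hi))
    haveI : QuasiIso (CochainComplex.truncGEMap α (-(N : ℤ))) := by
      rw [CochainComplex.quasiIso_truncGEMap_iff]
      intro i hi
      rw [quasiIsoAt_iff_isIso_homologyMap]
      exact (NatIso.isIso_map_iff (DerivedCategory.homologyFunctorFactors (ModuleCat.{u} R) i) α).1
        (((KFlatLib.isPcMap_iff_cone c α).2 fun j hj => (hex j hj).isZero_homology).1 i (by omega))
    exact ⟨asIso (DerivedCategory.Q.map (CochainComplex.truncGEMap α (-(N : ℤ)))) ≪≫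
      (asIso (DerivedCategory.Q.map (E.πTruncGE (-(N : ℤ))))).symm⟩

end Groth.Agent.NisGlob
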